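import Mathlib
import Cfsg.Prelude.Def_Transfer
import Cfsg.Prelude.Def_Solvable
import Cfsg.Agent.H476.MinNormal
import Cfsg.Agent.H476.MaxCentralizer
import Cfsg.Agent.Lib.MinNormalNonabelian

/-!
The structure of a normal closure `X = ⟨x^G⟩`, when centralizers of the elements of `X` outside `Z(X)` are
maximal subgroups of `G` and `X` is not abelian.
-/

set_option autoImplicit false

namespace Cfsg.Agent.H476.MaxCentralizer

open Cfsg

variable {G : Type*} [Group G]

/-- If the centralizers of the elements of `X ∖ Z` are maximal (`X ⊴ G`, `Z = Z(X)`) and `S / Z` is a chief factor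
with `S ≤ X` then `S / Z` is elementary abelian. -/
theorem chief_elementary [Finite G] (X Z S : Subgroup G) [hZn : Z.Normal] [hSn : S.Normal]
    (hcoat : ∀ v ∈ X, v ∉ Z → IsCoatom (Subgroup.centralizer ({v} : Set G)))
    (hZX : ∀ v ∈ X, Z ≤ Subgroup.centralizer ({v} : Set G))
    (hZS : Z < S) (hSX : S ≤ X)
    (hmin : ∀ T : Subgroup G, T.Normal → Z ≤ T → T ≤ S → T = Z ∨ T = S) :
    ∃ p : ℕ, p.Prime ∧ (∀ s ∈ S, s ^ p ∈ Z) ∧ ∀ s ∈ S, ∀ t ∈ S, s * t * s⁻¹ * t⁻¹ ∈ Z := by
  classical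
  set π := QuotientGroup.mk' Z with hπ
  have hker : ∀ g : G, π g = 1 ↔ g ∈ Z := fun g => QuotientGroup.eq_one_iff g
  have hsurj : Function.Surjective π := QuotientGroup.mk'_surjective Z
  set S' : Subgroup (G ⧸ Z) := S.map π with hS'
  have hS'n : S'.Normal := hSn.map π hsurj
  have hmin' : ∀ T : Subgroup (G ⧸ Z), T.Normal → T ≤ S' → T = ⊥ ∨ T = S' := by
    intro T hT hTS
    have h1 : Z ≤ T.comap π := by
      intro z hz
      rw [Subgroup.mem_comap, (hker z).2 hz]
      exact T.one_mem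
    have h2 : T.comap π ≤ S := by
      intro g hg
      obtain ⟨s, hs, hsg⟩ := hTS (Subgroup.mem_comap.1 hg)
      have : π (s⁻¹ * g) = 1 := by rw [map_mul, map_inv, hsg, inv_mul_cancel]
      have h3 := hZS.le ((hker _).1 this)
      have h4 := S.mul_mem hs h3
      rwa [mul_inv_cancel_left] at h4
    rcases hmin _ (hT.comap π) h1 h2 with h3 | h3
    · left
      rw [eq_bot_iff]
      intro t ht
      obtain ⟨g, rfl⟩ := hsurj t
      have : g ∈ T.comap π := ht
      rw [h3] at this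
      exact (hker g).2 this
    · right
      rw [hS', ← h3, Subgroup.map_comap_eq_self_of_surjective hsurj]
  have hS'ne : S' ≠ ⊥ := by
    intro h
    apply hZS.not_ge
    intro s hs
    have : π s ∈ S' := ⟨s, hs, rfl⟩
    rw [h, Subgroup.mem_bot] at this
    exact (hker s).1 this
  -- `S'` is a `p`-group
  have hpgroup : ∃ p : ℕ, p.Prime ∧ IsPGroup p S' := by
    by_cases h2 : ∀ r : ℕ, r.Prime → r ∣ Nat.card S' → r = 2
    · refine ⟨2, Nat.prime_two, ?_⟩
      rw [IsPGroup.iff_card]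
      exact ⟨_, Nat.eq_prime_pow_of_unique_prime_dvd Nat.card_pos.ne' (fun {d} hd hdv => h2 d hd hdv)⟩
    · push Not at h2
      obtain ⟨r, hr, hrd, hr2⟩ := h2
      haveI : Fact r.Prime := ⟨hr⟩
      refine ⟨r, hr, ?_⟩
      obtain ⟨y', hy'⟩ := exists_prime_orderOf_dvd_card' r hrd
      obtain ⟨y₀, hy₀S, hy₀⟩ := y'.2
      -- replace `y₀` by an `r`-element
      obtain ⟨a, m, hm, ham⟩ := Nat.exists_eq_pow_mul_and_not_dvd (n := orderOf y₀) (orderOf_pos y₀).ne' r hr.ne_one
      set y : G := y₀ ^ m with hy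
      have hyS : y ∈ S := S.pow_mem hy₀S m
      have hm0 : m ≠ 0 := by
        rintro rfl
        exact hm (dvd_zero r)
      have hordy : orderOf y = r ^ a := by
        rw [hy, orderOf_pow' y₀ hm0, ham, Nat.gcd_eq_right (Dvd.intro_left _ rfl)]
        exact Nat.mul_div_cancel _ (Nat.pos_of_ne_zero hm0)
      have hyZ : y ∉ Z := by
        intro h
        have h1 : (π y₀) ^ m = 1 := by rw [← map_pow]; exact (hker _).2 h
        have h3 : orderOf (π y₀) = r := by rw [hy₀, Subgroup.orderOf_coe, hy']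
        exact hm (h3 ▸ orderOf_dvd_of_pow_eq_one h1)
      have hyM := hcoat y (hSX hyS) hyZ
      set M : Subgroup G := Subgroup.centralizer ({y} : Set G) with hM
      have hZM : Z ≤ M := hZX y (hSX hyS)
      have hcomap : (M.map π).comap π = M := by
        rw [Subgroup.comap_map_eq, QuotientGroup.ker_mk', sup_eq_left.2 hZM]
      have hM' : IsCoatom (M.map π) := by
        constructor
        · intro h
          apply hyM.1
          rw [← hcomap, h, Subgroup.comap_top]
        · intro T hT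
          have h1 : M < T.comap π := by
            rw [← hcomap]
            exact Subgroup.comap_lt_comap_of_surjective hsurj |>.2 hT
          have h3 := hyM.2 _ h1
          rw [← Subgroup.map_comap_eq_self_of_surjective hsurj T, h3, Subgroup.map_top_of_surjective _ hsurj]
      have hinf : M.map π ⊓ S' = (M ⊓ S).map π := by
        apply le_antisymm
        · rintro t ⟨⟨m, hm, rfl⟩, ⟨s, hs, hst⟩⟩
          refine ⟨m, ⟨hm, ?_⟩, rfl⟩
          have : π (s⁻¹ * m) = 1 := by rw [map_mul, map_inv, hst, inv_mul_cancel]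
          have h3 := hZS.le ((hker _).1 this)
          have h4 := S.mul_mem hs h3
          rwa [mul_inv_cancel_left] at h4
        · exact le_inf (Subgroup.map_mono inf_le_left) (Subgroup.map_mono inf_le_right)
      have hnil := isNilpotent_inf X Z hcoat (hSX hyS) hyZ hordy S hSX
      refine MinNormal.isPGroup_of_minimal_normal S' (M.map π) hmin' hM' r hr2 ?_ ?_
      · rw [hinf]
        exact Group.nilpotent_of_surjective (π.subgroupMap (M ⊓ S)) (π.subgroupMap_surjective (M ⊓ S))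
      · rw [hinf]
        have h5 : π y ∈ (M ⊓ S).map π := ⟨y, ⟨mem_cz.2 rfl, hyS⟩, rfl⟩
        have h6 : orderOf (π y) ∣ r ^ a := by
          rw [← hordy]; exact orderOf_map_dvd π y
        obtain ⟨b, hb, hb'⟩ := (Nat.dvd_prime_pow hr).1 h6
        have hb0 : b ≠ 0 := by
          rintro rfl
          rw [pow_zero, orderOf_eq_one_iff] at hb'
          exact hyZ ((hker y).1 hb')
        have h7 : orderOf (π y) ∣ Nat.card ↥((M ⊓ S).map π) := Subgroup.orderOf_dvd_natCard _ h5
        rw [hb'] at h7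
        exact (dvd_pow_self r hb0).trans h7
  obtain ⟨p, hp, hpS⟩ := hpgroup
  haveI : Fact p.Prime := ⟨hp⟩
  -- `S'` is abelian
  have hab : ∀ x ∈ S', ∀ y ∈ S', Commute x y := by
    have h1 : (S' ⊓ Subgroup.centralizer (S' : Set (G ⧸ Z))).Normal := inferInstance
    rcases hmin' _ h1 inf_le_left with h | h
    · exfalso
      haveI : Nontrivial S' := (Subgroup.nontrivial_iff_ne_bot S').2 hS'ne
      have h2 := hpS.bot_lt_center
      obtain ⟨z, hz, hz1⟩ := SetLike.exists_of_lt h2
      apply hz1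
      have h3 : (z : G ⧸ Z) ∈ S' ⊓ Subgroup.centralizer (S' : Set (G ⧸ Z)) := by
        refine ⟨z.2, Subgroup.mem_centralizer_iff.2 fun w hw => ?_⟩
        exact congrArg Subtype.val (Subgroup.mem_center_iff.1 hz ⟨w, hw⟩)
      rw [h, Subgroup.mem_bot] at h3
      exact Subgroup.mem_bot.2 (Subtype.ext h3)
    · intro x hx y hy
      rw [← h] at hx
      exact (Subgroup.mem_centralizer_iff.1 hx.2 y hy).symm
  obtain ⟨p, hp, -, hexp⟩ := Lib.MinNormalNonabelian.abelian_structure S' hS'ne hmin' hab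
  refine ⟨p, hp, ?_, ?_⟩
  · intro s hs
    rw [← hker, map_pow]
    exact hexp _ ⟨s, hs, rfl⟩
  · intro s hs t ht
    rw [← hker, map_mul, map_mul, map_mul, map_inv, map_inv, (hab (π s) ⟨s, hs, rfl⟩ (π t) ⟨t, ht, rfl⟩).eq]
    group

/-- Structure of a nonabelian normal closure `X = ⟨x^G⟩` when centralizers of the elements of `X ∖ Z(X)` are
maximal in `G`. -/
theorem structure_normalClosure [Finite G] (x : G) (X Z : Subgroup G) (hX : X = Subgroup.normalClosure {x})
    (hZ : Z = X ⊓ Subgroup.centralizer (X : Set G)) (hxZ : x ∉ Z)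
    (hcoat : ∀ v ∈ X, v ∉ Z → IsCoatom (Subgroup.centralizer ({v} : Set G))) :
    ∃ S : Subgroup G, S.Normal ∧ Z < S ∧ S ≤ X ∧
      (∃ p : ℕ, p.Prime ∧ ∀ s ∈ S, s ^ p ∈ Z) ∧
      (∀ s ∈ S, ∀ t ∈ S, s * t = t * s) ∧
      (∃ q : ℕ, q.Prime ∧ x ^ q ∈ Z) ∧
      (∀ s ∈ S, s * x * s⁻¹ * x⁻¹ ∈ Z → s ∈ Z) ∧
      X ≤ S ⊔ Subgroup.zpowers x ∧
      X ⊔ Subgroup.centralizer (X : Set G) = ⊤ ∧
      (∀ v ∈ S, v ∉ Z → Subgroup.centralizer ({x} : Set G) ⊔ Subgroup.zpowers v = ⊤) := by
  classical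
  haveI hXn : X.Normal := hX ▸ Subgroup.normalClosure_normal
  haveI hZn : Z.Normal := hZ ▸ inferInstance
  have hxX : x ∈ X := hX ▸ Subgroup.subset_normalClosure (Set.mem_singleton x)
  have hZX : Z ≤ X := hZ ▸ inf_le_left
  have hZcX : Z ≤ Subgroup.centralizer (X : Set G) := hZ ▸ inf_le_right
  have hZc : ∀ v ∈ X, Z ≤ Subgroup.centralizer ({v} : Set G) := by
    intro v hv z hz
    rw [mem_cz]
    exact (Subgroup.mem_centralizer_iff.1 (hZcX hz) v hv).symm
  -- the smallest normal subgroup containing `x`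
  have hXle : ∀ T : Subgroup G, T.Normal → x ∈ T → X ≤ T := by
    intro T hT hxT
    rw [hX]
    exact Subgroup.normalClosure_le_normal (Set.singleton_subset_iff.2 hxT)
  -- minimal `S`
  obtain ⟨S, ⟨hSn, hZS, hSX⟩, hSmin⟩ := Set.Finite.exists_minimal (s := {T : Subgroup G | T.Normal ∧ Z < T ∧ T ≤ X})
    (Set.toFinite _) ⟨X, hXn, lt_of_le_of_ne hZX (fun h => hxZ (h ▸ hxX)), le_refl X⟩
  have hmin : ∀ T : Subgroup G, T.Normal → Z ≤ T → T ≤ S → T = Z ∨ T = S := by
    intro T hT h1 h2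
    rcases eq_or_lt_of_le h1 with h3 | h3
    · exact Or.inl h3.symm
    · right
      exact le_antisymm h2 (hSmin ⟨hT, h3, h2.trans hSX⟩ h2)
  obtain ⟨p, hp, hexp, hcomm⟩ := chief_elementary X Z S hcoat hZc hZS hSX hmin
  set M : Subgroup G := Subgroup.centralizer ({x} : Set G) with hM
  have hMc : IsCoatom M := hcoat x hxX hxZ
  -- a normal subgroup of `G` inside `M` centralizes `X`
  have hcore : ∀ T : Subgroup G, T.Normal → T ≤ M → T ≤ Subgroup.centralizer (X : Set G) := by
    intro T hT hTM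
    have h1 : x ∈ Subgroup.centralizer (T : Set G) := by
      rw [Subgroup.mem_centralizer_iff]
      intro t ht
      exact mem_cz.1 (hTM ht)
    have h2 : X ≤ Subgroup.centralizer (T : Set G) := hXle _ inferInstance h1
    exact Subgroup.le_centralizer_iff.1 h2
  have hSM : ¬ S ≤ M := by
    intro h
    apply hZS.not_ge
    rw [hZ]
    exact le_inf hSX (hcore S hSn h)
  have hMS : M ⊔ S = ⊤ := by
    rcases hMc.le_iff.1 (le_sup_left : M ≤ M ⊔ S) with h | h
    · exact h
    · exact absurd (le_sup_right.trans h.le) hSM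
  have hZM : Z ≤ M := hZc x hxX
  -- decomposition `G = S M`
  have hdec : ∀ g : G, ∃ s ∈ S, ∃ m ∈ M, g = s * m := by
    intro g
    have hg : g ∈ S ⊔ M := by rw [sup_comm, hMS]; exact Subgroup.mem_top g
    rw [Subgroup.mem_sup_of_normal_left] at hg
    obtain ⟨s, hs, m, hm, h⟩ := hg
    exact ⟨s, hs, m, hm, h.symm⟩
  -- `M ∩ S = Z`
  have hMinf : M ⊓ S = Z := by
    have hn : (M ⊓ S).Normal := by
      constructor
      intro t ht g
      obtain ⟨s, hs, m, hm, rfl⟩ := hdec g
      have h1 : m * t * m⁻¹ ∈ M ⊓ S := ⟨M.mul_mem (M.mul_mem hm ht.1) (M.inv_mem hm), hSn.conj_mem t ht.2 m⟩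
      have h2 : s * (m * t * m⁻¹) * s⁻¹ * (m * t * m⁻¹)⁻¹ ∈ Z := hcomm s hs _ h1.2
      have h3 : s * m * t * (s * m)⁻¹ = (s * (m * t * m⁻¹) * s⁻¹ * (m * t * m⁻¹)⁻¹) * (m * t * m⁻¹) := by group
      rw [h3]
      exact (M ⊓ S).mul_mem (le_inf hZM hZS.le h2) h1
    rcases hmin _ hn (le_inf hZM hZS.le) inf_le_right with h | h
    · exact h
    · exact absurd (inf_eq_right.1 h) hSM
  -- conjugates of `x`
  have hXS : X ≤ S ⊔ Subgroup.zpowers x := by
    rw [hX, Subgroup.normalClosure, Subgroup.closure_le]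
    intro y hy
    rw [Group.mem_conjugatesOfSet_iff] at hy
    obtain ⟨a, ha, hy⟩ := hy
    rw [Set.mem_singleton_iff] at ha
    subst ha
    obtain ⟨g, rfl⟩ := isConj_iff.1 hy
    obtain ⟨s, hs, m, hm, rfl⟩ := hdec g
    have hmx : m * a = a * m := mem_cz.1 hm
    have h1 : s * m * a * (s * m)⁻¹ = (s * (a * s⁻¹ * a⁻¹)) * a := by
      calc s * m * a * (s * m)⁻¹ = s * (m * a) * m⁻¹ * s⁻¹ := by group
        _ = s * (a * m) * m⁻¹ * s⁻¹ := by rw [hmx]
        _ = (s * (a * s⁻¹ * a⁻¹)) * a := by group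
    rw [h1]
    exact Subgroup.mul_mem _ (Subgroup.mem_sup_left (S.mul_mem hs (hSn.conj_mem _ (S.inv_mem hs) a)))
      (Subgroup.mem_sup_right (Subgroup.mem_zpowers a))
  -- centralizers mod `Z`
  have hTv : ∀ v ∈ S, v ∉ Z → ∀ g : G, g * v * g⁻¹ * v⁻¹ ∈ Z → g ∈ Subgroup.centralizer ({v} : Set G) := by
    intro v hv hvZ g hg
    set π := QuotientGroup.mk' Z with hπ
    have hker : ∀ g : G, π g = 1 ↔ g ∈ Z := fun g => QuotientGroup.eq_one_iff g
    have hsurj : Function.Surjective π := QuotientGroup.mk'_surjective Z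
    set T : Subgroup G := (Subgroup.centralizer ({π v} : Set (G ⧸ Z))).comap π with hT
    have hTmem : ∀ g : G, g ∈ T ↔ g * v * g⁻¹ * v⁻¹ ∈ Z := by
      intro g
      rw [hT, Subgroup.mem_comap, Subgroup.mem_centralizer_singleton_iff, ← hker]
      simp only [map_mul, map_inv]
      constructor
      · intro h; rw [h]; group
      · intro h
        rw [mul_inv_eq_one, mul_inv_eq_iff_eq_mul] at h
        exact h
    have hvc := hcoat v (hSX hv) hvZ
    have h1 : Subgroup.centralizer ({v} : Set G) ≤ T := by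
      intro g hg
      rw [hTmem]
      rw [mem_cz] at hg
      rw [hg]
      have : v * g * g⁻¹ * v⁻¹ = 1 := by group
      rw [this]
      exact Z.one_mem
    rcases hvc.le_iff.1 h1 with h2 | h2
    · exfalso
      -- `v` is central mod `Z`
      set U : Subgroup G := S ⊓ (Subgroup.center (G ⧸ Z)).comap π with hU
      have hUn : U.Normal := inferInstance
      have hvU : v ∈ U := by
        refine Subgroup.mem_inf.2 ⟨hv, ?_⟩
        rw [Subgroup.mem_comap, Subgroup.mem_center_iff]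
        intro g'
        obtain ⟨g, rfl⟩ := hsurj g'
        have : g ∈ T := h2 ▸ Subgroup.mem_top g
        rw [hT, Subgroup.mem_comap, Subgroup.mem_centralizer_singleton_iff] at this
        exact this
      have hZU : Z ≤ U := by
        intro z hz
        refine Subgroup.mem_inf.2 ⟨hZS.le hz, ?_⟩
        rw [Subgroup.mem_comap, (hker z).2 hz]
        exact Subgroup.one_mem _
      have hUS : U = S := by
        rcases hmin U hUn hZU inf_le_left with h | h
        · exact absurd (h ▸ hvU) hvZ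
        · exact h
      have hScen : ∀ s ∈ S, ∀ g : G, s * g * s⁻¹ * g⁻¹ ∈ Z := by
        intro s hs g
        rw [← hUS] at hs
        have h3 := Subgroup.mem_center_iff.1 (Subgroup.mem_comap.1 hs.2) (π g)
        rw [← hker]
        simp only [map_mul, map_inv]
        rw [← h3]
        group
      -- so all conjugates of `x` lie in `M`
      have hXM : X ≤ M := by
        rw [hX, Subgroup.normalClosure, Subgroup.closure_le]
        intro y hy
        rw [Group.mem_conjugatesOfSet_iff] at hy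
        obtain ⟨a, ha, hy⟩ := hy
        rw [Set.mem_singleton_iff] at ha
        subst ha
        obtain ⟨g, rfl⟩ := isConj_iff.1 hy
        obtain ⟨s, hs, m, hm, rfl⟩ := hdec g
        have hmx : m * a = a * m := mem_cz.1 hm
        have h1 : s * m * a * (s * m)⁻¹ = (s * a * s⁻¹ * a⁻¹) * a := by
          calc s * m * a * (s * m)⁻¹ = s * (m * a) * m⁻¹ * s⁻¹ := by group
            _ = s * (a * m) * m⁻¹ * s⁻¹ := by rw [hmx]
            _ = (s * a * s⁻¹ * a⁻¹) * a := by group
        rw [h1]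
        exact M.mul_mem (hZM (hScen s hs a)) (mem_cz.2 rfl)
      apply hxZ
      rw [hZ]
      refine Subgroup.mem_inf.2 ⟨hxX, ?_⟩
      rw [Subgroup.mem_centralizer_iff]
      intro y hy
      exact mem_cz.1 (hXM hy)
    · rw [← h2]
      exact (hTmem g).2 hg
  have hxTv : ∀ s ∈ S, s * x * s⁻¹ * x⁻¹ ∈ Z → s ∈ Z := by
    intro s hs h
    by_contra hsZ
    have h1 : x * s * x⁻¹ * s⁻¹ ∈ Z := by
      have h2 := Z.inv_mem h
      have h3 : (s * x * s⁻¹ * x⁻¹)⁻¹ = x * s * x⁻¹ * s⁻¹ := by group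
      rwa [h3] at h2
    have h2 := mem_cz.1 (hTv s hs hsZ x h1)
    have h3 : s ∈ M ⊓ S := ⟨mem_cz.2 h2.symm, hs⟩
    rw [hMinf] at h3
    exact hsZ h3
  have hScomm : ∀ s ∈ S, ∀ t ∈ S, s * t = t * s := by
    intro s hs t ht
    by_cases htZ : t ∈ Z
    · exact mem_cz.1 (hZc s (hSX hs) htZ) |>.symm
    · exact mem_cz.1 (hTv t ht htZ s (hcomm s hs t ht))
  -- choose `v`
  obtain ⟨v, hvS, hvZ⟩ := SetLike.exists_of_lt hZS
  set C : Subgroup G := Subgroup.centralizer ({v} : Set G) with hC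
  have hCc : IsCoatom C := hcoat v (hSX hvS) hvZ
  have hSC : S ≤ C := fun s hs => mem_cz.2 (hScomm s hs v hvS)
  have hxC : x ∉ C := by
    intro h
    have h1 : v ∈ M ⊓ S := ⟨mem_cz.2 (mem_cz.1 h).symm, hvS⟩
    rw [hMinf] at h1
    exact hvZ h1
  have hCn : C.Normal := by
    have h1 : ∀ c ∈ C, x * c * x⁻¹ ∈ C := by
      intro c hc
      obtain ⟨s, hs, m, hm, rfl⟩ := hdec c
      have hmC : m ∈ C := by
        have := C.mul_mem (C.inv_mem (hSC hs)) hc
        rwa [inv_mul_cancel_left] at this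
      have hmx : m * x = x * m := mem_cz.1 hm
      have h2 : x * (s * m) * x⁻¹ = (x * s * x⁻¹) * m := by
        calc x * (s * m) * x⁻¹ = x * s * (m * x⁻¹) := by group
          _ = x * s * (x⁻¹ * m) := by rw [(Commute.inv_right (show Commute m x from hmx)).eq]
          _ = _ := by group
      rw [h2]
      exact C.mul_mem (hSC (hSn.conj_mem s hs x)) hmC
    have h2 : x ∈ Subgroup.normalizer (C : Set G) := by
      rw [Subgroup.mem_normalizer_iff_map_conj_eq]
      apply Subgroup.eq_of_le_of_card_ge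
      · rintro _ ⟨c, hc, rfl⟩
        exact h1 c hc
      · exact (Nat.card_congr (C.equivMapOfInjective (MulAut.conj x).toMonoidHom (MulAut.conj x).injective).toEquiv).le
    have h3 : Subgroup.normalizer (C : Set G) = ⊤ := by
      rcases hCc.le_iff.1 (Subgroup.le_normalizer : C ≤ Subgroup.normalizer (C : Set G)) with h | h
      · exact h
      · rw [h] at h2
        exact absurd h2 hxC
    exact MinNormal.normal_of_normalizer_eq_top h3
  -- `x ^ q ∈ C`
  have hCx : ∀ y : G, y ∉ C → C ⊔ Subgroup.zpowers y = ⊤ := by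
    intro y hy
    rcases hCc.le_iff.1 (le_sup_left : C ≤ C ⊔ Subgroup.zpowers y) with h | h
    · exact h
    · exact absurd (h ▸ Subgroup.mem_sup_right (Subgroup.mem_zpowers y)) hy
  obtain ⟨q, hq, hxq⟩ : ∃ q : ℕ, q.Prime ∧ x ^ q ∈ C := by
    have h1 : orderOf (QuotientGroup.mk' C x) ≠ 1 := by
      intro h
      rw [orderOf_eq_one_iff] at h
      exact hxC ((QuotientGroup.eq_one_iff x).1 h)
    obtain ⟨q, hq, hqd⟩ := Nat.exists_prime_and_dvd h1
    refine ⟨q, hq, ?_⟩
    by_contra hcon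
    have h2 := hCx _ hcon
    have h3 : x ∈ C ⊔ Subgroup.zpowers (x ^ q) := by rw [h2]; exact Subgroup.mem_top x
    rw [Subgroup.mem_sup_of_normal_left] at h3
    obtain ⟨c, hc, w, hw, h4⟩ := h3
    obtain ⟨k, rfl⟩ := Subgroup.mem_zpowers_iff.1 hw
    have h5 : (QuotientGroup.mk' C x) ^ ((q : ℤ) * k - 1) = 1 := by
      have h6 : QuotientGroup.mk' C x = (QuotientGroup.mk' C x) ^ ((q : ℤ) * k) := by
        have h7 := congrArg (QuotientGroup.mk' C) h4
        rw [map_mul, map_zpow, map_pow] at h7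
        have h8 : QuotientGroup.mk' C c = 1 := (QuotientGroup.eq_one_iff c).2 hc
        rw [h8, one_mul, ← zpow_natCast, ← zpow_mul] at h7
        exact h7.symm
      rw [zpow_sub_one, ← h6, mul_inv_cancel]
    have h6 : (orderOf (QuotientGroup.mk' C x) : ℤ) ∣ (q : ℤ) * k - 1 := orderOf_dvd_iff_zpow_eq_one.2 h5
    have h7 : (q : ℤ) ∣ (q : ℤ) * k - 1 := (Int.natCast_dvd_natCast.2 hqd).trans h6
    have h8 : (q : ℤ) ∣ 1 := by
      have := dvd_sub (Dvd.intro k rfl : (q : ℤ) ∣ (q : ℤ) * k) h7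
      simpa using this
    have h9 : q ∣ 1 := by exact_mod_cast h8
    exact hq.one_lt.ne' (Nat.dvd_one.1 h9)
  -- `C ∩ M` is normal
  have hCM : (C ⊓ M) ≤ Subgroup.centralizer (X : Set G) := by
    refine hcore _ ?_ inf_le_right
    have hB : S ⊓ Subgroup.centralizer (C : Set G) ⊔ Z = S := by
      rcases hmin (S ⊓ Subgroup.centralizer (C : Set G) ⊔ Z) inferInstance le_sup_right
        (sup_le inf_le_left hZS.le) with h | h
      · exfalso
        apply hvZ
        rw [← h]
        refine Subgroup.mem_sup_left (Subgroup.mem_inf.2 ⟨hvS, ?_⟩)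
        rw [Subgroup.mem_centralizer_iff]
        intro c hc
        exact mem_cz.1 hc
      · exact h
    have h1 : S ≤ Subgroup.normalizer ((C ⊓ M : Subgroup G) : Set G) := by
      rw [← hB]
      refine sup_le ?_ ?_
      · refine inf_le_right.trans ?_
        refine (Subgroup.centralizer_le (inf_le_left : C ⊓ M ≤ C)).trans ?_
        exact Subgroup.centralizer_le_normalizer _
      · exact (le_inf (hZS.le.trans hSC) hZM).trans Subgroup.le_normalizer
    have h2 : M ≤ Subgroup.normalizer ((C ⊓ M : Subgroup G) : Set G) := by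
      intro m hm
      rw [Subgroup.mem_normalizer_iff]
      intro c
      constructor
      · rintro ⟨h3, h4⟩
        exact ⟨hCn.conj_mem c h3 m, M.mul_mem (M.mul_mem hm h4) (M.inv_mem hm)⟩
      · rintro ⟨h3, h4⟩
        have h5 : c = m⁻¹ * (m * c * m⁻¹) * m⁻¹⁻¹ := by group
        rw [h5]
        exact ⟨hCn.conj_mem _ h3 m⁻¹, M.mul_mem (M.mul_mem (M.inv_mem hm) h4) (M.inv_mem (M.inv_mem hm))⟩
    apply MinNormal.normal_of_normalizer_eq_top
    rw [eq_top_iff, ← hMS]
    exact sup_le h2 h1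
  have hxM : x ∈ M := mem_cz.2 rfl
  refine ⟨S, hSn, hZS, hSX, ⟨p, hp, hexp⟩, hScomm, ⟨q, hq, ?_⟩, hxTv, hXS, ?_, ?_⟩
  · rw [hZ]
    exact ⟨X.pow_mem hxX q, hCM ⟨hxq, M.pow_mem hxM q⟩⟩
  · rw [eq_top_iff, ← hMS]
    refine sup_le ?_ (hSX.trans le_sup_left)
    intro m hm
    have h1 : m ∈ C ⊔ Subgroup.zpowers x := by rw [hCx x hxC]; exact Subgroup.mem_top m
    rw [Subgroup.mem_sup_of_normal_left] at h1
    obtain ⟨c, hc, w, hw, rfl⟩ := h1
    have hwM : w ∈ M := (Subgroup.zpowers_le.2 hxM) hw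
    have hwX : w ∈ X := (Subgroup.zpowers_le.2 hxX) hw
    have hcM : c ∈ M := by
      have := M.mul_mem hm (M.inv_mem hwM)
      rwa [mul_inv_cancel_right] at this
    exact Subgroup.mul_mem _ (Subgroup.mem_sup_right (hCM ⟨hc, hcM⟩)) (Subgroup.mem_sup_left hwX)
  · intro w hw hwZ
    rcases hMc.le_iff.1 (le_sup_left : M ≤ M ⊔ Subgroup.zpowers w) with h | h
    · exact h
    · exfalso
      apply hwZ
      rw [← hMinf]
      exact ⟨h.le (Subgroup.mem_sup_right (Subgroup.mem_zpowers w)), hw⟩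

end Cfsg.Agent.H476.MaxCentralizer
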